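import Groth.Agent.CohCmpLib.LiftSection
import Groth.Agent.AmpleDevLib.Pull
import Groth.Agent.TwistLib.SpecSections
import Mathlib.AlgebraicGeometry.AffineSpace
import Mathlib.Algebra.MvPolynomial.Nilpotent

/-!
# Invertible modules on affine space over a reduced scheme
-/

set_option autoImplicit false
set_option backward.isDefEq.respectTransparency false
set_option maxHeartbeats 1000000
universe u

open CategoryTheory CategoryTheory.Limits AlgebraicGeometry TopologicalSpace Opposite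
open KFlatLib (puSec puSecLE pb)
open AmpleLib (res GenOn GenAt)

noncomputable section

namespace PicAffLib

variable {n : Type u}

theorem appLE_congr' {Y Z : Scheme.{u}} {f g : Y ⟶ Z} (h : f = g) {U : Z.Opens} {V : Y.Opens} (e : V ≤ f ⁻¹ᵁ U)
    (e' : V ≤ g ⁻¹ᵁ U) (a : Γ(Z, U)) : f.appLE U V e a = g.appLE U V e' a := by
  subst h; rfl

theorem appLE_top_top {Y Z : Scheme.{u}} (f : Y ⟶ Z) (e : (⊤ : Y.Opens) ≤ f ⁻¹ᵁ ⊤) : f.appLE ⊤ ⊤ e = f.appTop :=
  f.appLE_eq_app

section affine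
variable (R : CommRingCat.{u})

local notation "𝔸R" => AffineSpace n (Spec R)

/-- polynomials as functions on affine space -/
def polyFun : MvPolynomial n R →+* Γ(𝔸R, ⊤) :=
  ((AffineSpace.SpecIso n R).hom.appTop.hom.comp (Scheme.ΓSpecIso (CommRingCat.of (MvPolynomial n R))).inv.hom)

theorem polyFun_surjective : Function.Surjective (polyFun (n := n) R) := fun a => by
  refine ⟨(Scheme.ΓSpecIso (CommRingCat.of (MvPolynomial n R))).hom ((AffineSpace.SpecIso n R).inv.appTop a), ?_⟩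
  show (AffineSpace.SpecIso n R).hom.appTop ((Scheme.ΓSpecIso _).inv ((Scheme.ΓSpecIso _).hom _)) = a
  rw [Iso.hom_inv_id_apply, ← CommRingCat.comp_apply, ← Scheme.Hom.comp_appTop, Iso.hom_inv_id]
  rfl

theorem polyFun_C (r : R) : polyFun (n := n) R (MvPolynomial.C r) =
    (AffineSpace n (Spec R) ↘ Spec R).appTop ((Scheme.ΓSpecIso R).inv r) := by
  show (AffineSpace.SpecIso n R).hom.appTop ((Scheme.ΓSpecIso _).inv ((CommRingCat.ofHom MvPolynomial.C) r)) = _
  rw [← CommRingCat.comp_apply, ← CommRingCat.comp_apply, Scheme.ΓSpecIso_inv_naturality_assoc,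
    ← Scheme.Hom.comp_appTop, ← AffineSpace.SpecIso_inv_over, Iso.hom_inv_id_assoc]
  rfl

theorem polyFun_X (i : n) : polyFun R (MvPolynomial.X i) = AffineSpace.coord (Spec R) i := by
  show (AffineSpace.SpecIso n R).hom.appTop ((Scheme.ΓSpecIso _).inv (MvPolynomial.X i)) = _
  rw [← AffineSpace.SpecIso_inv_appTop_coord, ← CommRingCat.comp_apply, ← Scheme.Hom.comp_appTop, Iso.hom_inv_id]
  rfl

/-- global functions on affine space are generated by constants and coordinates -/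
theorem fun_induction {P : Γ(𝔸R, ⊤) → Prop}
    (hC : ∀ r : R, P ((AffineSpace n (Spec R) ↘ Spec R).appTop ((Scheme.ΓSpecIso R).inv r)))
    (hX : ∀ i, P (AffineSpace.coord (Spec R) i)) (hadd : ∀ a b, P a → P b → P (a + b))
    (hmul : ∀ a b, P a → P b → P (a * b)) (a : Γ(𝔸R, ⊤)) : P a := by
  obtain ⟨q, rfl⟩ := polyFun_surjective R a
  induction q using MvPolynomial.induction_on with
  | C r => rw [polyFun_C]; exact hC r
  | add p q hp hq => rw [map_add]; exact hadd _ _ hp hq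
  | mul_X p i hp => rw [map_mul, polyFun_X]; exact hmul _ _ hp (hX i)

end affine

/-- A unit of affine space over a field takes the same value on all sections. -/
theorem appTop_unit_eq (K : Type u) [Field K] {a : Γ(AffineSpace n (Spec (CommRingCat.of K)), ⊤)} (ha : IsUnit a)
    (s t : Spec (CommRingCat.of K) ⟶ AffineSpace n (Spec (CommRingCat.of K)))
    (hs : s ≫ (AffineSpace n (Spec (CommRingCat.of K)) ↘ Spec (CommRingCat.of K)) = 𝟙 _)
    (ht : t ≫ (AffineSpace n (Spec (CommRingCat.of K)) ↘ Spec (CommRingCat.of K)) = 𝟙 _) :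
    s.appTop a = t.appTop a := by
  let iso := AffineSpace.SpecIso n (CommRingCat.of K)
  let q := (Scheme.ΓSpecIso (CommRingCat.of (MvPolynomial n K))).hom (iso.inv.appTop a)
  have hq : polyFun (CommRingCat.of K) q = a := by
    show iso.hom.appTop ((Scheme.ΓSpecIso _).inv ((Scheme.ΓSpecIso _).hom _)) = a
    rw [Iso.hom_inv_id_apply, ← CommRingCat.comp_apply, ← Scheme.Hom.comp_appTop, Iso.hom_inv_id]
    rfl
  have hu : IsUnit q := (ha.map iso.inv.appTop.hom).map (Scheme.ΓSpecIso (CommRingCat.of (MvPolynomial n K))).hom.hom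
  classical
  have hC : q = MvPolynomial.C (q.coeff 0) := by
    refine MvPolynomial.ext _ _ fun i => ?_
    rw [MvPolynomial.coeff_C]
    split_ifs with h
    · rw [h]
    · exact ((MvPolynomial.isUnit_iff.1 hu).2 i (Ne.symm h)).eq_zero
  rw [← hq, hC, polyFun_C]
  have key : ∀ (r : Spec (CommRingCat.of K) ⟶ AffineSpace n (Spec (CommRingCat.of K)))
      (hr : r ≫ (AffineSpace n (Spec (CommRingCat.of K)) ↘ Spec (CommRingCat.of K)) = 𝟙 _) (c : Γ(Spec (CommRingCat.of K), ⊤)),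
      r.appTop ((AffineSpace n (Spec (CommRingCat.of K)) ↘ Spec (CommRingCat.of K)).appTop c) = c := fun r hr c => by
    rw [← CommRingCat.comp_apply, ← Scheme.Hom.comp_appTop, hr]
    rfl
  rw [key s hs, key t ht]

variable {X : Scheme.{u}}

variable (n X) in
/-- the zero section -/
def zeroSec : X ⟶ AffineSpace n X := AffineSpace.homOfVector (𝟙 X) 0

theorem zeroSec_over : zeroSec n X ≫ (AffineSpace n X ↘ X) = 𝟙 X := AffineSpace.homOfVector_over _ _

theorem le_zeroSec_preimage (V : X.Opens) : V ≤ zeroSec n X ⁻¹ᵁ ((AffineSpace n X ↘ X) ⁻¹ᵁ V) := fun x hx => by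
  show (zeroSec n X ≫ (AffineSpace n X ↘ X)) x ∈ V
  rw [zeroSec_over]
  exact hx

theorem zeroSec_appLE_app (V : X.Opens) (a : Γ(X, V)) :
    (zeroSec n X).appLE _ V (le_zeroSec_preimage V) ((AffineSpace n X ↘ X).app V a) = a := by
  rw [Scheme.Hom.app_eq_appLE, ← CommRingCat.comp_apply, Scheme.Hom.appLE_comp_appLE]
  rw [appLE_congr' (zeroSec_over (n := n) (X := X)) _ (by exact le_rfl)]
  simp [Scheme.Hom.appLE]
  exact congrArg (fun k => (ConcreteCategory.hom k) a) (CategoryTheory.Functor.map_id X.presheaf (op V))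

/-- Over a reduced base, a unit that is one on the zero section is one. -/
theorem unit_eq_one [IsReduced X] (V : X.Opens) {a : Γ(AffineSpace n X, (AffineSpace n X ↘ X) ⁻¹ᵁ V)} (ha : IsUnit a)
    (h : (zeroSec n X).appLE _ V (le_zeroSec_preimage V) a = 1) : a = 1 := by
  let π := AffineSpace n X ↘ X
  rw [← sub_eq_zero, ← basicOpen_eq_bot_iff, eq_bot_iff]
  intro w hw
  have hwV : π w ∈ V := (AffineSpace n X).basicOpen_le _ hw
  let K := (AffineSpace n X).residueField w
  let ι : Spec K ⟶ AffineSpace n X := (AffineSpace n X).fromSpecResidueField w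
  let g : AffineSpace n (Spec K) ⟶ AffineSpace n X := AffineSpace.map n (ι ≫ π)
  have hι : ∀ z, ι z = w := fun z => Scheme.fromSpecResidueField_apply w z
  have hg : (⊤ : (AffineSpace n (Spec K)).Opens) ≤ g ⁻¹ᵁ (π ⁻¹ᵁ V) := fun z _ => by
    show (g ≫ π) z ∈ V
    rw [AffineSpace.map_over]
    show π (ι _) ∈ V
    rw [hι]
    exact hwV
  let s₁ : Spec K ⟶ AffineSpace n (Spec K) := AffineSpace.homOfVector (𝟙 _) fun i => ι.appTop (AffineSpace.coord X i)
  let s₀ : Spec K ⟶ AffineSpace n (Spec K) := AffineSpace.homOfVector (𝟙 _) 0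
  have h₁ : s₁ ≫ g = ι := by
    apply AffineSpace.hom_ext
    · rw [Category.assoc, AffineSpace.map_over, AffineSpace.homOfVector_over_assoc, Category.id_comp]
    · intro i
      rw [Scheme.Hom.comp_appTop, CommRingCat.comp_apply, AffineSpace.map_appTop_coord,
        AffineSpace.homOfVector_appTop_coord]
  have h₀ : s₀ ≫ g = (ι ≫ π) ≫ zeroSec n X := by
    apply AffineSpace.hom_ext
    · rw [Category.assoc, AffineSpace.map_over, AffineSpace.homOfVector_over_assoc, Category.id_comp, Category.assoc _ (zeroSec n X),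
        zeroSec_over, Category.comp_id]
    · intro i
      rw [Scheme.Hom.comp_appTop, CommRingCat.comp_apply, AffineSpace.map_appTop_coord,
        AffineSpace.homOfVector_appTop_coord, Scheme.Hom.comp_appTop, CommRingCat.comp_apply,
        show (zeroSec n X).appTop (AffineSpace.coord X i) = 0 from AffineSpace.homOfVector_appTop_coord _ _ i]
      exact (map_zero _).symm
  have hιV : (⊤ : (Spec K).Opens) ≤ ι ⁻¹ᵁ (π ⁻¹ᵁ V) := fun z _ => by
    show π (ι z) ∈ V
    rw [hι]; exact hwV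
  let a' := g.appLE _ ⊤ hg a
  have key : s₁.appTop (g.appLE _ ⊤ hg a) = s₀.appTop (g.appLE _ ⊤ hg a) :=
    appTop_unit_eq K (ha.map (g.appLE _ ⊤ hg).hom) s₁ s₀ (AffineSpace.homOfVector_over _ _)
      (AffineSpace.homOfVector_over _ _)
  rw [← appLE_top_top s₁ le_rfl, ← appLE_top_top s₀ le_rfl, ← CommRingCat.comp_apply, ← CommRingCat.comp_apply,
    Scheme.Hom.appLE_comp_appLE, Scheme.Hom.appLE_comp_appLE, appLE_congr' h₁ _ hιV,
    appLE_congr' h₀ _ (fun z _ => le_zeroSec_preimage V (show π (ι z) ∈ V from hιV trivial))] at key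
  have e0 : ι.appLE _ ⊤ hιV a = 1 := by
    rw [key, ← Scheme.Hom.appLE_comp_appLE (ι ≫ π) (zeroSec n X) _ V ⊤ (le_zeroSec_preimage V) (fun z _ => hιV trivial),
      CommRingCat.comp_apply, h, map_one]
  have hb : (Spec K).basicOpen (ι.appLE _ ⊤ hιV (a - 1)) = ⊤ ⊓ ι ⁻¹ᵁ (AffineSpace n X).basicOpen (a - 1) :=
    Scheme.basicOpen_appLE ι _ _ hιV _
  rw [map_sub, e0, map_one, sub_self, Scheme.basicOpen_zero] at hb
  obtain ⟨z⟩ := (inferInstance : Nonempty (Spec K))
  exact (hb.symm ▸ (⟨trivial, show ι z ∈ (AffineSpace n X).basicOpen (a - 1) by rw [hι]; exact hw⟩ :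
    z ∈ ⊤ ⊓ ι ⁻¹ᵁ (AffineSpace n X).basicOpen (a - 1)) : z ∈ (⊥ : (Spec K).Opens)).elim

theorem fromSpecStalk_appLE {x : X} {U : X.Opens} (hx : x ∈ U)
    (h1 : (⊤ : (Spec (X.presheaf.stalk x)).Opens) ≤ (X.fromSpecStalk x) ⁻¹ᵁ U) :
    (X.fromSpecStalk x).appLE U ⊤ h1 = X.presheaf.germ U x hx ≫ (Scheme.ΓSpecIso (X.presheaf.stalk x)).inv := by
  rw [Scheme.Hom.appLE, Scheme.fromSpecStalk_app hx, Category.assoc, Category.assoc, ← Functor.map_comp]
  have e1 : ∀ (i : (Opposite.op (⊤ : (Spec (X.presheaf.stalk x)).Opens)) ⟶ Opposite.op ⊤),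
      (Spec (X.presheaf.stalk x)).presheaf.map i = 𝟙 _ := fun i => by
    rw [Subsingleton.elim i (𝟙 _)]; exact CategoryTheory.Functor.map_id _ _
  rw [e1, Category.comp_id]

/-- a section of an invertible module generates on an open set -/
theorem isOpen_genAt' {P : Scheme.{u}} {L : P.Modules} (hL : PicF.IsInvertible L) {W : P.Opens} (m : Γ(L, W)) :
    IsOpen {w : P | ∃ hw : w ∈ W, GenAt L m hw} := by
  refine isOpen_iff_mem_nhds.2 fun w ⟨hw, hm⟩ => ?_
  obtain ⟨U, e, hwU, he⟩ := TwistLib.exists_genOn hL w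
  let T := W ⊓ U
  obtain ⟨r, hr⟩ := (he T inf_le_right).2 (res L (inf_le_left : T ≤ W) m)
  have key : ∀ y (hy : y ∈ T), GenAt L m hy.1 ↔ y ∈ P.basicOpen r := fun y hy => by
    rw [← AmpleLib.genAt_res (inf_le_left : T ≤ W) m hy, ← hr]
    exact AmpleLib.genAt_smul_iff r _ hy ((he.res inf_le_right).genAt hy)
  refine Filter.mem_of_superset ((T ⊓ P.basicOpen r).2.mem_nhds ⟨⟨hw, hwU⟩, (key w ⟨hw, hwU⟩).1 hm⟩) ?_
  exact fun y hy => ⟨hy.1.1, (key y hy.1).2 hy.2⟩

/-- An invertible module trivial on the local affine space has a generator on the preimage of a neighbourhood. -/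
theorem exists_frame {L : (AffineSpace n X).Modules} (hL : PicF.IsInvertible L) (x : X)
    (hx : ∀ M : (AffineSpace n (Spec (X.presheaf.stalk x))).Modules, PicF.IsInvertible M →
      Nonempty (M ≅ Coh.structureModule (AffineSpace n (Spec (X.presheaf.stalk x))))) :
    ∃ (V : X.Opens) (_ : x ∈ V) (τ : Γ(L, (AffineSpace n X ↘ X) ⁻¹ᵁ V)), GenOn L τ := by
  let π := AffineSpace n X ↘ X
  haveI : Coh.IsQCoh L := TwistLib.isQCoh_of_isInvertible hL
  obtain ⟨U, hU, hxU⟩ := QCohLib.exists_affine_nhd x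
  let W := π ⁻¹ᵁ U
  have hW : IsAffineOpen W := hU.preimage π
  let A := AffineSpace n (Spec (X.presheaf.stalk x))
  let g : A ⟶ AffineSpace n X := AffineSpace.map n (X.fromSpecStalk x)
  have hgen : ∀ {w : AffineSpace n X}, w ∈ Set.range g ↔ π w ⤳ x := fun {w} => by
    have h := AffineSpace.isPullback_map (n := n) (X.fromSpecStalk x)
    have hr : Set.range g = π ⁻¹' Set.range (X.fromSpecStalk x) := by
      show Set.range (AffineSpace.map n (X.fromSpecStalk x)) = _
      rw [← Scheme.Pullback.range_fst (f := π) (g := X.fromSpecStalk x), ← h.isoPullback_hom_fst,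
        Scheme.Hom.comp_base, TopCat.coe_comp, Set.range_comp,
        Set.range_eq_univ.2 h.isoPullback.hom.surjective, Set.image_univ]
    rw [hr, Scheme.range_fromSpecStalk]
    rfl
  have hle : (⊤ : A.Opens) ≤ g ⁻¹ᵁ W := fun z _ => (hgen.1 ⟨z, rfl⟩).mem_open U.2 hxU
  have hsU : (⊤ : (Spec (X.presheaf.stalk x)).Opens) ≤ (X.fromSpecStalk x) ⁻¹ᵁ U := fun z _ => by
    have : X.fromSpecStalk x z ∈ Set.range (X.fromSpecStalk x) := ⟨z, rfl⟩
    rw [Scheme.range_fromSpecStalk] at this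
    exact (show X.fromSpecStalk x z ⤳ x from this).mem_open U.2 hxU
  have hφ : ∀ f : Γ(X, U), g.appLE W ⊤ hle (π.app U f) =
      (A ↘ Spec (X.presheaf.stalk x)).appTop ((Scheme.ΓSpecIso _).inv (X.presheaf.germ U x hxU f)) := fun f => by
    rw [Scheme.Hom.app_eq_appLE, ← CommRingCat.comp_apply, Scheme.Hom.appLE_comp_appLE,
      appLE_congr' (AffineSpace.map_over (n := n) (X.fromSpecStalk x)) _ (fun z _ => hsU trivial),
      ← Scheme.Hom.appLE_comp_appLE (A ↘ Spec (X.presheaf.stalk x)) (X.fromSpecStalk x) U ⊤ ⊤ hsU le_rfl,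
      CommRingCat.comp_apply, fromSpecStalk_appLE hxU hsU, appLE_top_top]
    rfl
  obtain ⟨φ⟩ := hx (pb g L) (AmpleDevLib.isInvertible_pb (f := g) hL)
  let e : Γ(pb g L, ⊤) := φ.inv.app ⊤ (1 : Γ(A, ⊤))
  have he : GenOn (pb g L) e := by
    intro V hV
    have h1 := (AmpleLib.one_genOn (X := A) ⊤) V hV
    have ee : (fun r : Γ(A, V) => r • res (pb g L) hV e) =
        ⇑(φ.inv.app V) ∘ fun r : Γ(A, V) => r • res (Coh.structureModule A) hV (1 : Γ(A, ⊤)) := funext fun r => by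
      show r • res (pb g L) hV e = φ.inv.app V (r • res (Coh.structureModule A) hV (1 : Γ(A, ⊤)))
      rw [Scheme.Modules.Hom.app_smul]
      exact congrArg (r • ·) (NatTrans.naturality_apply φ.inv.mapPresheaf (homOfLE hV).op (1 : Γ(A, ⊤))).symm
    rw [ee]
    exact (ConcreteCategory.bijective_of_isIso (φ.inv.app V)).comp h1
  letI : Algebra Γ(AffineSpace n X, W) Γ(A, ⊤) := (g.appLE W ⊤ hle).hom.toAlgebra
  letI : Module Γ(AffineSpace n X, W) Γ(pb g L, ⊤) := Module.compHom _ (g.appLE W ⊤ hle).hom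
  haveI : IsScalarTower Γ(AffineSpace n X, W) Γ(A, ⊤) Γ(pb g L, ⊤) := IsScalarTower.of_algebraMap_smul fun _ _ => rfl
  let ψ : Γ(L, W) →ₗ[Γ(AffineSpace n X, W)] Γ(pb g L, ⊤) :=
    { toFun := puSecLE g L hle
      map_add' := map_add _
      map_smul' := fun r m => KFlatLib.puSecLE_smul g L hle r m }
  haveI : IsAffine A := inferInstanceAs (IsAffine (AffineSpace n (Spec (X.presheaf.stalk x))))
  have hb : IsBaseChange Γ(A, ⊤) ψ :=
    KFlatLib.isBaseChange_puSec g L hW (isAffineOpen_top A) hle (fun _ => rfl) ψ fun _ => rfl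
  have hM : ∀ {f f' : Γ(X, U)}, x ∈ X.basicOpen f → x ∈ X.basicOpen f' → x ∈ X.basicOpen (f * f') :=
    fun hf hf' => by rw [Scheme.basicOpen_mul]; exact ⟨hf, hf'⟩
  have hM1 : x ∈ X.basicOpen (1 : Γ(X, U)) := by
    rw [Scheme.mem_basicOpen X _ x hxU, map_one]; exact isUnit_one
  have hfun : ∀ t : Γ(A, ⊤), ∃ (f : Γ(X, U)) (s : Γ(AffineSpace n X, W)), x ∈ X.basicOpen f ∧
      g.appLE W ⊤ hle s = g.appLE W ⊤ hle (π.app U f) * t := by
    intro t
    refine fun_induction _ (P := fun t => ∃ (f : Γ(X, U)) (s : Γ(AffineSpace n X, W)), x ∈ X.basicOpen f ∧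
      g.appLE W ⊤ hle s = g.appLE W ⊤ hle (π.app U f) * t) ?_ ?_ ?_ ?_ t
    · intro r
      letI := X.presheaf.algebra_section_stalk ⟨x, hxU⟩
      haveI := hU.isLocalization_stalk ⟨x, hxU⟩
      obtain ⟨⟨s, f⟩, hsf⟩ := IsLocalization.surj (hU.primeIdealOf ⟨x, hxU⟩).asIdeal.primeCompl r
      refine ⟨f, π.app U s, (Scheme.mem_basicOpen X _ x hxU).2 (IsLocalization.map_units (X.presheaf.stalk x) f), ?_⟩
      rw [hφ, hφ, ← map_mul, ← map_mul]
      congr 2
      rw [mul_comm]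
      exact hsf.symm
    · intro i
      refine ⟨1, (AffineSpace n X).presheaf.map (homOfLE le_top).op (AffineSpace.coord X i), hM1, ?_⟩
      rw [map_one, map_one, one_mul, ← CommRingCat.comp_apply, Scheme.Hom.map_appLE, appLE_top_top]
      exact AffineSpace.map_appTop_coord _ _
    · rintro a b ⟨f, s, hf, hs⟩ ⟨f', s', hf', hs'⟩
      refine ⟨f * f', π.app U f' * s + π.app U f * s', hM hf hf', ?_⟩
      simp only [map_add, map_mul, hs, hs']
      ring
    · rintro a b ⟨f, s, hf, hs⟩ ⟨f', s', hf', hs'⟩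
      refine ⟨f * f', s * s', hM hf hf', ?_⟩
      simp only [map_mul, hs, hs']
      ring
  have hsec : ∀ z : Γ(pb g L, ⊤), ∃ (f : Γ(X, U)) (m : Γ(L, W)), x ∈ X.basicOpen f ∧
      puSecLE g L hle m = g.appLE W ⊤ hle (π.app U f) • z := by
    intro z
    induction z using hb.inductionOn with
    | zero => exact ⟨1, 0, hM1, by rw [map_zero, smul_zero]⟩
    | tmul m => exact ⟨1, m, hM1, by rw [map_one, map_one, one_smul]; rfl⟩
    | smul t z hz =>
      obtain ⟨f, s, hf, hs⟩ := hfun t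
      obtain ⟨f', m, hf', hm⟩ := hz
      refine ⟨f * f', s • m, hM hf hf', ?_⟩
      rw [KFlatLib.puSecLE_smul, hs, hm, map_mul, map_mul, smul_smul, smul_smul]
      congr 1
      ring
    | add a b ha hb' =>
      obtain ⟨f, m, hf, hm⟩ := ha
      obtain ⟨f', m', hf', hm'⟩ := hb'
      refine ⟨f * f', π.app U f' • m + π.app U f • m', hM hf hf', ?_⟩
      rw [map_add, KFlatLib.puSecLE_smul, KFlatLib.puSecLE_smul, hm, hm', map_mul, map_mul, smul_add, smul_smul,
        smul_smul]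
      congr 1
      rw [mul_comm]
  obtain ⟨f₀, m, hf₀, hm⟩ := hsec e
  have hgenm : ∀ w (hw : w ∈ W), π w ⤳ x → GenAt L m hw := by
    intro w hw hwx
    obtain ⟨z, rfl⟩ := hgen.2 hwx
    refine CohCmpLib.genAt_of_puSec g hL m (z := z) hw ?_
    refine (AmpleLib.genAt_res hle _ (x := z) trivial).1 ?_
    change GenAt _ (puSecLE g L hle m) _
    rw [hm]
    refine (AmpleLib.genAt_smul_iff _ e _ (he.genAt (x := z) trivial)).2 ?_
    rw [hφ, Scheme.mem_basicOpen _ _ z (show z ∈ (⊤ : A.Opens) from trivial)]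
    exact ((((Scheme.mem_basicOpen X f₀ x hxU).1 hf₀).map (Scheme.ΓSpecIso _).inv.hom).map
      (A ↘ Spec (X.presheaf.stalk x)).appTop.hom).map ((A.presheaf.germ ⊤ z trivial).hom)
  -- spreading out
  let D : Set (AffineSpace n X) := {w | ∃ hw : w ∈ W, GenAt L m hw}
  let Z : Set (PrimeSpectrum Γ(AffineSpace n X, W)) := hW.fromSpec ⁻¹' Dᶜ
  have hZ : IsClosed Z := (isOpen_genAt' hL m).isClosed_compl.preimage hW.fromSpec.continuous
  have hZI : PrimeSpectrum.zeroLocus (PrimeSpectrum.vanishingIdeal Z : Set Γ(AffineSpace n X, W)) = Z := by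
    rw [PrimeSpectrum.zeroLocus_vanishingIdeal_eq_closure, hZ.closure_eq]
  obtain ⟨f, hxf, hfI⟩ : ∃ f : Γ(X, U), x ∈ X.basicOpen f ∧ π.app U f ∈ PrimeSpectrum.vanishingIdeal Z := by
    by_contra hne
    let M : Submonoid Γ(AffineSpace n X, W) :=
      { carrier := {a | ∃ f : Γ(X, U), x ∈ X.basicOpen f ∧ π.app U f = a}
        one_mem' := ⟨1, hM1, map_one _⟩
        mul_mem' := by
          rintro _ _ ⟨f, hf, rfl⟩ ⟨f', hf', rfl⟩
          exact ⟨f * f', hM hf hf', map_mul _ _ _⟩ }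
    have hdis : Disjoint (PrimeSpectrum.vanishingIdeal Z : Set Γ(AffineSpace n X, W)) (M : Set Γ(AffineSpace n X, W)) := by
      rw [Set.disjoint_left]
      rintro _ ha ⟨f, hf, rfl⟩
      exact hne ⟨f, hf, ha⟩
    obtain ⟨q, hq, hIq, hqM⟩ := Ideal.exists_le_prime_disjoint _ M hdis
    let p : Spec Γ(AffineSpace n X, W) := ⟨q, hq⟩
    have hpZ : p ∈ Z := by
      rw [← hZI, PrimeSpectrum.mem_zeroLocus]
      exact hIq
    have hpW : hW.fromSpec p ∈ W := by
      have : hW.fromSpec p ∈ Set.range hW.fromSpec := ⟨p, rfl⟩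
      rwa [hW.range_fromSpec] at this
    refine hpZ ⟨hpW, hgenm _ hpW ?_⟩
    rw [specializes_iff_forall_open]
    intro O hO hxO
    obtain ⟨f, hfle, hxf⟩ := hU.exists_basicOpen_le (V := ⟨O, hO⟩) ⟨x, hxO⟩ hxU
    refine hfle ?_
    show hW.fromSpec p ∈ π ⁻¹ᵁ X.basicOpen f
    rw [Scheme.preimage_basicOpen]
    show p ∈ hW.fromSpec ⁻¹ᵁ (AffineSpace n X).basicOpen (π.app U f)
    rw [hW.fromSpec_preimage_basicOpen]
    exact (PrimeSpectrum.mem_basicOpen _ _).2 fun hmem => Set.disjoint_left.1 hqM hmem ⟨f, hxf, rfl⟩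
  have hVW : π ⁻¹ᵁ X.basicOpen f ≤ W := π.preimage_mono (X.basicOpen_le f)
  refine ⟨X.basicOpen f, hxf, res L hVW m, TwistLib.genOn_of_genAt fun w hw => (AmpleLib.genAt_res hVW m hw).2 ?_⟩
  by_contra hgw
  let p := hW.primeIdealOf ⟨w, hVW hw⟩
  have hp : hW.fromSpec p = w := hW.fromSpec_primeIdealOf _
  have hpZ : p ∈ Z := by
    show hW.fromSpec p ∈ Dᶜ
    rw [hp]
    exact fun ⟨_, h⟩ => hgw h
  have hmem : π.app U f ∈ p.asIdeal := (PrimeSpectrum.mem_vanishingIdeal _ _).1 hfI p hpZ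
  have hwb : w ∈ (AffineSpace n X).basicOpen (π.app U f) := by
    have h' : w ∈ π ⁻¹ᵁ X.basicOpen f := hw
    rwa [Scheme.preimage_basicOpen] at h'
  have hpb' : hW.fromSpec p ∈ (AffineSpace n X).basicOpen (π.app U f) := by rw [hp]; exact hwb
  have hpb : p ∈ hW.fromSpec ⁻¹ᵁ (AffineSpace n X).basicOpen (π.app U f) := hpb'
  rw [hW.fromSpec_preimage_basicOpen] at hpb
  exact (PrimeSpectrum.mem_basicOpen _ _).1 hpb hmem

theorem puSecLE_res {Y Z : Scheme.{u}} (g : Y ⟶ Z) (M : Z.Modules) {U U' : Z.Opens} {V V' : Y.Opens}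
    (h : V ≤ g ⁻¹ᵁ U) (h' : V' ≤ g ⁻¹ᵁ U') (hU : U' ≤ U) (hV : V' ≤ V) (m : Γ(M, U)) :
    puSecLE g M h' (res M hU m) = res (pb g M) hV (puSecLE g M h m) := by
  rw [KFlatLib.puSecLE_apply, KFlatLib.puSecLE_apply]
  refine (congrArg ((pb g M).presheaf.map (homOfLE h').op)
    (QCohLib.app_map ((Scheme.Modules.pullbackPushforwardAdjunction g).unit.app M) (homOfLE hU) m)).trans ?_
  refine (QCohLib.map_map' (pb g M) (homOfLE h') (homOfLE (g.preimage_mono hU)) (puSec g m)).trans ?_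
  exact (QCohLib.map_map' (pb g M) (homOfLE hV) (homOfLE h) (puSec g m)).symm

theorem isUnit_of_genAt {Y : Scheme.{u}} {M : Y.Modules} {V : Y.Opens} (r : Γ(Y, V)) (e : Γ(M, V))
    (he : GenOn M e) (h : ∀ y (hy : y ∈ V), GenAt M (r • e) hy) : IsUnit r :=
  Y.toRingedSpace.isUnit_of_isUnit_germ V r fun y hy =>
    (Scheme.mem_basicOpen Y r y hy).1 ((AmpleLib.genAt_smul_iff r e hy (he.genAt hy)).1 (h y hy))

/-- Invertible modules on affine space over a reduced scheme without invertible modules. -/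
theorem nonempty_iso [IsReduced X]
    (hX : ∀ L : X.Modules, PicF.IsInvertible L → Nonempty (L ≅ Coh.structureModule X))
    (hloc : ∀ x : X, ∀ M : (AffineSpace n (Spec (X.presheaf.stalk x))).Modules, PicF.IsInvertible M →
      Nonempty (M ≅ Coh.structureModule (AffineSpace n (Spec (X.presheaf.stalk x)))))
    (L : (AffineSpace n X).Modules) (hL : PicF.IsInvertible L) :
    Nonempty (L ≅ Coh.structureModule (AffineSpace n X)) := by
  classical
  let π := AffineSpace n X ↘ X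
  let σ := zeroSec n X
  obtain ⟨φ⟩ := hX (pb σ L) (AmpleDevLib.isInvertible_pb (f := σ) hL)
  let e₀ : Γ(pb σ L, ⊤) := φ.inv.app ⊤ (1 : Γ(X, ⊤))
  have he₀ : GenOn (pb σ L) e₀ := by
    intro V hV
    have h1 := (AmpleLib.one_genOn (X := X) ⊤) V hV
    have ee : (fun r : Γ(X, V) => r • res (pb σ L) hV e₀) =
        ⇑(φ.inv.app V) ∘ fun r : Γ(X, V) => r • res (Coh.structureModule X) hV (1 : Γ(X, ⊤)) := funext fun r => by
      show r • res (pb σ L) hV e₀ = φ.inv.app V (r • res (Coh.structureModule X) hV (1 : Γ(X, ⊤)))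
      rw [Scheme.Modules.Hom.app_smul]
      exact congrArg (r • ·) (NatTrans.naturality_apply φ.inv.mapPresheaf (homOfLE hV).op (1 : Γ(X, ⊤))).symm
    rw [ee]
    exact (ConcreteCategory.bijective_of_isIso (φ.inv.app V)).comp h1
  have hframe : ∀ x : X, ∃ (V : X.Opens) (_ : x ∈ V) (τ : Γ(L, π ⁻¹ᵁ V)), GenOn L τ ∧
      puSecLE σ L (le_zeroSec_preimage V) τ = res (pb σ L) le_top e₀ := by
    intro x
    obtain ⟨V, hxV, τ, hτ⟩ := exists_frame hL x (hloc x)
    obtain ⟨v, hv⟩ := (he₀ V le_top).2 (puSecLE σ L (le_zeroSec_preimage V) τ)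
    dsimp only at hv
    have huv : IsUnit v := isUnit_of_genAt v _ (he₀.res le_top) fun y hy => by
      rw [hv]
      exact (AmpleLib.genAt_res (le_zeroSec_preimage V) _ hy).2
        (TwistLib.GenAt.puSec σ (hτ.genAt (le_zeroSec_preimage V hy)))
    obtain ⟨v, rfl⟩ := huv
    refine ⟨V, hxV, π.app V ↑v⁻¹ • τ, TwistLib.genOn_of_genAt fun w hw => ?_, ?_⟩
    · refine (AmpleLib.genAt_smul_iff _ τ hw (hτ.genAt hw)).2 ((Scheme.mem_basicOpen _ _ w hw).2 ?_)
      exact ((v⁻¹).isUnit.map (π.app V).hom).map ((AffineSpace n X).presheaf.germ _ w hw).hom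
    · rw [KFlatLib.puSecLE_smul, zeroSec_appLE_app, ← hv, smul_smul, Units.inv_mul, one_smul]
  choose V hxV τ hτ hnorm using hframe
  obtain ⟨t, ht, -⟩ := TopCat.Sheaf.existsUnique_gluing'
    (⟨L.presheaf, L.isSheaf⟩ : TopCat.Sheaf Ab (AffineSpace n X : Scheme.{u})) (fun x => π ⁻¹ᵁ V x) ⊤
    (fun x => homOfLE le_top) (fun w _ => Opens.mem_iSup.2 ⟨π w, hxV _⟩) τ (by
      intro x y
      let T := V x ⊓ V y
      let τx := res L (π.preimage_mono (inf_le_left : T ≤ V x)) (τ x)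
      let τy := res L (π.preimage_mono (inf_le_right : T ≤ V y)) (τ y)
      obtain ⟨a, ha⟩ := ((hτ x) (π ⁻¹ᵁ T) (π.preimage_mono inf_le_left)).2 τy
      dsimp only at ha
      have hau : IsUnit a := isUnit_of_genAt a τx ((hτ x).res _) fun w hw => by
        rw [ha]; exact (AmpleLib.genAt_res _ _ hw).2 ((hτ y).genAt _)
      have hpx : puSecLE σ L (le_zeroSec_preimage T) τx = res (pb σ L) le_top e₀ := by
        rw [puSecLE_res σ L (le_zeroSec_preimage (V x)) _ _ (inf_le_left : T ≤ V x), hnorm, AmpleLib.res_res]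
      have hpy : puSecLE σ L (le_zeroSec_preimage T) τy = res (pb σ L) le_top e₀ := by
        rw [puSecLE_res σ L (le_zeroSec_preimage (V y)) _ _ (inf_le_right : T ≤ V y), hnorm, AmpleLib.res_res]
      have h1 : (zeroSec n X).appLE _ T (le_zeroSec_preimage T) a = 1 := (he₀ T le_top).1 (by
        show _ • res (pb σ L) le_top e₀ = (1 : Γ(X, T)) • res (pb σ L) le_top e₀
        rw [one_smul]
        conv_lhs => rw [← hpx, ← KFlatLib.puSecLE_smul, ha, hpy])
      have ha1 := unit_eq_one T hau h1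
      rw [ha1, one_smul] at ha
      exact ha)
  have hgen : GenOn L t := TwistLib.genOn_of_genAt fun w _ => by
    refine (AmpleLib.genAt_res (le_top : π ⁻¹ᵁ V (π w) ≤ ⊤) t (hxV (π w))).1 ?_
    change GenAt L (L.presheaf.map (homOfLE le_top).op t) (hxV (π w))
    rw [show L.presheaf.map (homOfLE le_top).op t = τ (π w) from ht (π w)]
    exact (hτ _).genAt (hxV (π w))
  haveI := AmpleLib.isIso_unitHom t hgen
  exact ⟨(asIso (QCohLib.unitHom L t)).symm⟩

end PicAffLib

end
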